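import Groth.Agent.Lib.AlgSpace.DiagChart
import Groth.Agent.Lib.StAlg.Bridge

/-! The equalizer of two sections of a separated unramified map is open and closed. -/

universe v u' u

open CategoryTheory CategoryTheory.Functor CategoryTheory.Limits AlgebraicGeometry Opposite

set_option linter.style.haveILetI false
set_option linter.unusedSectionVars false
set_option backward.isDefEq.respectTransparency false
set_option backward.isDefEq.respectTransparency.types false

namespace Groth.Agent.EndTrans16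

open Groth.Agent.FC16 Groth.Agent.StAlg AlgSp

variable {S : Scheme.{u}}

theorem exists_equalizer {T : Over S} {X : Sp S} (hX : IsAlgSpace X) {p : X ⟶ (yon S).obj T}
    (hu : LocP (@LocallyOfFiniteType ⊓ @FormallyUnramified) p) (hs : AlgSp.IsSeparatedMor p)
    (s t : (yon S).obj T ⟶ X) (hs' : s ≫ p = 𝟙 _) (ht' : t ≫ p = 𝟙 _) :
    ∃ O : T.left.Opens, IsClosed (O : Set ↥T.left) ∧
      ∀ {W : Over S} (k : W ⟶ T), (yon S).map k ≫ s = (yon S).map k ≫ t ↔ Set.range k.left ⊆ (O : Set ↥T.left) := by
  have hd₁ := AlgSpace.repWith_diagonal_isOpenImmersion_of_unramified hX (IsAlgSpace.yon_obj T) hu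
  have hd₂ : RepWith @IsClosedImmersion (pullback.diagonal p) := hs
  let d : (yon S).obj T ⟶ pullback p p := pullback.lift s t (hs'.trans ht'.symm)
  have sq := hd₁.1.isPullback d
  have sq' : IsPullback (hd₁.1.fst d) ((yon S).map (hd₁.1.snd d)) (pullback.diagonal p) d := sq
  let j := hd₁.1.snd d
  haveI : IsOpenImmersion j.left := (AlgSp.repWith_yon_map_iff @IsOpenImmersion j).1
    (AlgSpace.repWith_of_isPullback sq' hd₁)
  haveI : IsClosedImmersion j.left := (AlgSp.repWith_yon_map_iff @IsClosedImmersion j).1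
    (AlgSpace.repWith_of_isPullback sq' hd₂)
  refine ⟨j.left.opensRange, j.left.isClosedEmbedding.isClosed_range, fun {W} k => ⟨fun h => ?_, fun h => ?_⟩⟩
  · have w : ((yon S).map k ≫ s) ≫ pullback.diagonal p = (yon S).map k ≫ d := by
      apply pullback.hom_ext <;> simp [d, h]
    have hk := sq'.lift_snd _ _ w
    let l := (yon S).preimage (sq'.lift _ _ w)
    have hl : l ≫ j = k := (yon S).map_injective (by
      rw [Functor.map_comp, Functor.map_preimage]; exact hk)
    rw [← hl]
    rintro _ ⟨w', rfl⟩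
    exact ⟨l.left w', rfl⟩
  · let l : W ⟶ hd₁.1.pullback d := Over.homMk (IsOpenImmersion.lift j.left k.left h) (by
      rw [← Over.w j, IsOpenImmersion.lift_fac_assoc, Over.w k])
    have hl : l ≫ j = k := Over.OverMorphism.ext (IsOpenImmersion.lift_fac j.left k.left h)
    have e₁ := congrArg (fun q => q ≫ pullback.fst p p) sq'.w
    have e₂ := congrArg (fun q => q ≫ pullback.snd p p) sq'.w
    simp only [d, Category.assoc, pullback.diagonal_fst, pullback.diagonal_snd, pullback.lift_fst,
      pullback.lift_snd, Category.comp_id] at e₁ e₂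
    rw [← hl, Functor.map_comp, Category.assoc, Category.assoc]
    exact congrArg ((yon S).map l ≫ ·) (e₁.symm.trans e₂)

/-- the map to the base of a represented category, computed with any model -/
theorem isAlgSpace_and_prop {P : MorphismProperty (AlgSp.Sp S)} (hPi : PreIso P) {U : Over S}
    {I : AlgSp.Sp S} {𝒲 : BasedCategory.{v, u'} (Over S)} {E : AlgSt.ofSp I ⥤ᵇ 𝒲}
    (hE : FibCat.IsEquivOver E) (π : 𝒲 ⥤ᵇ FibCat.overCat U) (h : RepOf P π) :
    IsAlgSpace I ∧ P (AlgSt.spMapOfOver (BasedFunctor.comp E π)) := by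
  obtain ⟨X, e, he, hP⟩ := h
  obtain ⟨E', hE', ⟨α⟩, ⟨β⟩⟩ := exists_inverse hE
  let Φ : AlgSt.ofSp X.obj ⥤ᵇ AlgSt.ofSp I := BasedFunctor.comp e E'
  have hΦ : FibCat.IsEquivOver Φ := isEquivOver_comp he hE'
  haveI := isIso_mapOf hΦ
  let i : X.obj ≅ I := (fullyFaithfulSheafToPresheaf (AlgSp.J S) _).preimageIso (asIso (mapOf Φ))
  have hI : IsAlgSpace I := X.property.of_iso i
  refine ⟨hI, ?_⟩
  have key : AlgSt.spMapOfOver (BasedFunctor.comp e π) =
      i.hom ≫ AlgSt.spMapOfOver (BasedFunctor.comp E π) := by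
    have e₀ : AlgSt.spMapOfOver (BasedFunctor.comp e π) =
        AlgSt.spMapOfOver (BasedFunctor.comp Φ (BasedFunctor.comp E π)) :=
      spMapOfOver_congr (wlIso e (wrIso β π)).symm
    rw [e₀]
    apply ObjectProperty.hom_ext
    show _ = mapOf Φ ≫ (AlgSt.spMapOfOver (BasedFunctor.comp E π)).hom
    rw [spMapOfOver_hom, spMapOfOver_hom]
    exact mapOf_comp Φ (BasedFunctor.comp (BasedFunctor.comp E π) (AlgSt.ofOverCat U))
  rw [key] at hP
  have := hPi X.property hI i _ hP
  rwa [Iso.inv_hom_id_assoc] at this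

end Groth.Agent.EndTrans16
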