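import Groth.Agent.Lib.EndTrans16.Equalizer
import Groth.Agent.Lib.GerbBand16.Isom

/-! The locus where a vertical endomorphism is the identity. -/

universe u

open CategoryTheory CategoryTheory.Functor CategoryTheory.Limits AlgebraicGeometry Opposite

set_option linter.style.haveILetI false
set_option linter.unusedSectionVars false
set_option backward.isDefEq.respectTransparency false
set_option backward.isDefEq.respectTransparency.types false

namespace Groth.Agent.EndTrans16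

open Groth.Agent.FC16 Groth.Agent.StAlg
open Groth.Agent.GerbBand16 (IsoPt isoSheaf isoLeg isoπ pt pt_map comp_isoπ)

variable {S : Scheme.{u}} {𝒴 : AlgSt.Cat S}

theorem exists_locus (hY : Stk.IsPrestack (AlgSp.J S) 𝒴)
    (hu : AlgSt.RepByAlgSpWith (AlgSp.LocP (@LocallyOfFiniteType ⊓ @FormallyUnramified)) (FibCat.diag (FibCat.toSelf 𝒴)))
    (hs : AlgSt.RepByAlgSpWith AlgSp.IsSeparatedMor (FibCat.diag (FibCat.toSelf 𝒴)))
    {T : Over S} (y : FibCat.overCat T ⥤ᵇ 𝒴) (h : y.obj (Over.mk (𝟙 T)) ⟶ y.obj (Over.mk (𝟙 T)))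
    (hh : 𝒴.p.IsHomLift (𝟙 T) h) :
    ∃ O : T.left.Opens, IsClosed (O : Set ↥T.left) ∧ ∀ {W : Over S} (k : W ⟶ T),
      y.map (toTerm (Over.mk k)) ≫ h = y.map (toTerm (Over.mk k)) ↔ Set.range k.left ⊆ (O : Set ↥T.left) := by
  have hg := hY.1
  let z : FibCat.overCat T ⥤ᵇ FibCat.fp (FibCat.toSelf 𝒴) (FibCat.toSelf 𝒴) := FibCat.fpLift y y (Iso.refl _)
  have hp : ∀ ⦃V : Over S⦄ (W : Sieve V), W ∈ AlgSp.J S V → Groth.Agent.Quot16.GluesHom W 𝒴 :=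
    fun V W hW => GerbBand16.gluesHom_of_isPrestack hY hW
  obtain ⟨E, hE, hEq⟩ := GerbBand16.exists_equiv hg z hp
  obtain ⟨hI, hPu⟩ := isAlgSpace_and_prop (preIso_of_pullback pbP_locP) hE _ (hu T z)
  obtain ⟨-, hPs⟩ := isAlgSpace_and_prop (preIso_of_pullback pbP_isSeparatedMor) hE _ (hs T z)
  rw [hEq] at hPu hPs
  let x₁ : IsoPt (GerbBand16.fstOf z) (GerbBand16.sndOf z) T :=
    ⟨𝟙 T, 𝟙 (y.obj (Over.mk (𝟙 T))), IsHomLift.id (y.w_obj _)⟩
  let xh : IsoPt (GerbBand16.fstOf z) (GerbBand16.sndOf z) T := ⟨𝟙 T, h, hh⟩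
  let s₁ := (pt hg z hp).symm x₁
  let sh := (pt hg z hp).symm xh
  have h₁ : s₁ ≫ isoπ hg z hp = 𝟙 _ := by
    rw [comp_isoπ, Equiv.apply_symm_apply]
    exact (AlgSp.yon S).map_id T
  have h₂ : sh ≫ isoπ hg z hp = 𝟙 _ := by
    rw [comp_isoπ, Equiv.apply_symm_apply]
    exact (AlgSp.yon S).map_id T
  obtain ⟨O, hO, hOk⟩ := exists_equalizer hI hPu hPs sh s₁ h₂ h₁
  refine ⟨O, hO, fun {W} k => Iff.trans ?_ (hOk k)⟩
  let m : (Over.mk (k ≫ 𝟙 T) : Over T) ⟶ Over.mk (𝟙 T) := Over.homMk k rfl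
  let i : (Over.mk (k ≫ 𝟙 T) : Over T) ≅ Over.mk k := Over.isoMk (Iso.refl W) (by simp)
  have hm : m = i.hom ≫ toTerm (Over.mk k) := Over.OverMorphism.ext (Category.id_comp k).symm
  have e0 : (y.map (toTerm (Over.mk k)) ≫ h = y.map (toTerm (Over.mk k))) ↔ (y.map m ≫ h = y.map m) := by
    rw [hm]
    simp only [Functor.map_comp, Category.assoc]
    exact (cancel_epi (y.map i.hom)).symm
  have er : ((AlgSp.yon S).map k ≫ sh = (AlgSp.yon S).map k ≫ s₁) ↔ (xh.map hg k = x₁.map hg k) := by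
    rw [← (pt hg z hp).apply_eq_iff_eq, pt_map, pt_map, Equiv.apply_symm_apply, Equiv.apply_symm_apply]
  rw [e0, er]
  haveI : 𝒴.p.IsHomLift (𝟙 W) (𝟙 (y.obj (Over.mk (k ≫ 𝟙 T)))) := IsHomLift.id (y.w_obj _)
  let x₁' : IsoPt (GerbBand16.fstOf z) (GerbBand16.sndOf z) W :=
    ⟨k ≫ 𝟙 T, 𝟙 (y.obj (Over.mk (k ≫ 𝟙 T))), inferInstance⟩
  have e1 : x₁.map hg k = x₁' := IsoPt.map_eq hg k x₁ x₁' m rfl (by
    show 𝟙 _ ≫ y.map m = y.map m ≫ 𝟙 _
    exact (Category.id_comp _).trans (Category.comp_id _).symm)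
  rw [e1]
  constructor
  · intro e
    exact IsoPt.map_eq hg k xh x₁' m rfl (by
      show 𝟙 _ ≫ y.map m = y.map m ≫ h
      exact (Category.id_comp _).trans e.symm)
  · intro e
    have hr : (xh.map hg k).homAt (k ≫ 𝟙 T) rfl ≫ y.map m = y.map m ≫ h := IsoPt.map_rel hg k xh
    exact hr.symm.trans ((congrArg (· ≫ y.map m)
      (IsoPt.homAt_congr e (g := k ≫ 𝟙 T) rfl (rfl : x₁'.g = k ≫ 𝟙 T))).trans (Category.id_comp _))

end Groth.Agent.EndTrans16
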