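import Groth.Agent.Lib.EndTrans16.Locus
import Groth.Agent.Lib.StAlg16.Topology
import Groth.Agent.Lib.StAlg16.Mono
import Groth.Agent.Lib.GerbAbs16.Apps
import Groth.Agent.Lib.GerbAbs16.OfCover
import Groth.Agent.Lib.DMDiag14.Basic

/-! Endotransformations trivial on a dense open substack. -/

universe u

open CategoryTheory CategoryTheory.Functor CategoryTheory.Limits AlgebraicGeometry Opposite

set_option linter.style.haveILetI false
set_option linter.unusedSectionVars false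
set_option backward.isDefEq.respectTransparency false
set_option backward.isDefEq.respectTransparency.types false

namespace Groth.Agent.EndTrans16

open Groth.Agent.FC16 hiding overMap
open Groth.Agent.StAlg Groth.Agent.StAlg16 AlgSt

variable {S : Scheme.{u}} {𝒳 𝒴 𝒰 𝒱 : AlgSt.Cat S}

/-- triviality propagates to the source of a morphism -/
theorem app_eq_id_of_hom (hY : FibCat.IsFibGrpd 𝒴.p) {F : 𝒳 ⥤ᵇ 𝒴} (α : F ⟶ F) {a c : 𝒳.obj} (g : a ⟶ c)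
    (h : α.toNatTrans.app c = 𝟙 _) : α.toNatTrans.app a = 𝟙 _ := by
  haveI := hY.isStronglyCartesian (F.map g)
  haveI : 𝒴.p.IsHomLift (𝟙 (𝒴.p.obj (F.obj a))) (α.toNatTrans.app a) :=
    BasedNatTrans.isHomLift α (F.w_obj a).symm
  haveI : 𝒴.p.IsHomLift (𝟙 (𝒴.p.obj (F.obj a))) (𝟙 (F.obj a)) := IsHomLift.id rfl
  apply IsStronglyCartesian.ext 𝒴.p (𝒴.p.map (F.map g)) (F.map g) (𝟙 (𝒴.p.obj (F.obj a)))
  rw [Category.id_comp, ← α.toNatTrans.naturality g, h, Category.comp_id]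

/-- vertical endomorphisms of an object coming from a space through a monomorphism are trivial -/
theorem endo_eq_id_of_mono (hV : AlgSt.RepByAlgSp 𝒱) (hY : FibCat.IsFibGrpd 𝒴.p) {j : 𝒱 ⥤ᵇ 𝒴}
    (hj : AlgSt.IsMono j) (v : 𝒱.obj) (β : j.obj v ⟶ j.obj v) [𝒴.p.IsHomLift (𝟙 (𝒱.p.obj v)) β] : β = 𝟙 _ := by
  have hth := isFibSetoid_of_rep hV
  obtain ⟨hfull, -⟩ := fullyFaithful_of_isMono hth.1 hY j hj
  haveI := hfull
  haveI : 𝒴.p.IsHomLift (𝟙 (𝒱.p.obj v)) (j.map (j.toFunctor.preimage β)) := by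
    rw [Functor.map_preimage]; infer_instance
  haveI := BasedFunctor.isHomLift_map j (𝟙 (𝒱.p.obj v)) (j.toFunctor.preimage β)
  haveI : 𝒱.p.IsHomLift (𝟙 (𝒱.p.obj v)) (𝟙 v) := IsHomLift.id rfl
  have h := hom_ext_of_thin hth.2 (U := 𝒱.p.obj v) (j.toFunctor.preimage β) (𝟙 v)
  rw [← j.toFunctor.map_preimage β, h, j.toFunctor.map_id]

theorem app_eq_id_of_lift (hY : FibCat.IsFibGrpd 𝒴.p) (hV : AlgSt.RepByAlgSp 𝒱) {F : 𝒳 ⥤ᵇ 𝒴} (α : F ⟶ F)
    (i : 𝒰 ⥤ᵇ 𝒳) {j : 𝒱 ⥤ᵇ 𝒴} (hj : AlgSt.IsMono j) (G : 𝒰 ⥤ᵇ 𝒱)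
    (e : BasedFunctor.comp G j ≅ BasedFunctor.comp i F) (w : 𝒰.obj) : α.toNatTrans.app (i.obj w) = 𝟙 _ := by
  haveI l₁ : 𝒴.p.IsHomLift (𝟙 (𝒱.p.obj (G.obj w))) (appIso e w).hom :=
    isHomLift_appIso_hom e w (G.w_obj w).symm
  haveI l₂ : 𝒴.p.IsHomLift (𝟙 (𝒱.p.obj (G.obj w))) (α.toNatTrans.app (i.obj w)) :=
    BasedNatTrans.isHomLift α ((i.w_obj w).trans (G.w_obj w).symm)
  haveI : 𝒴.p.IsHomLift (𝟙 (𝒱.p.obj (G.obj w)))
      ((appIso e w).hom ≫ α.toNatTrans.app (i.obj w) ≫ (appIso e w).inv) := inferInstance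
  have h := endo_eq_id_of_mono hV hY hj (G.obj w)
    ((appIso e w).hom ≫ α.toNatTrans.app (i.obj w) ≫ (appIso e w).inv)
  have h' := congrArg (fun q => (appIso e w).inv ≫ q ≫ (appIso e w).hom) h
  simp only [Category.assoc, Iso.inv_hom_id_assoc, Iso.inv_hom_id, Category.comp_id, Category.id_comp] at h'
  exact h'.trans ((congrArg ((appIso e w).inv ≫ ·) (Category.id_comp (appIso e w).hom)).trans (appIso e w).inv_hom_id)

theorem endTrans_eq_id (h𝒳 : AlgSt.IsDM Scheme.fppfPrecoverage 𝒳) (h𝒴 : AlgSt.IsDM Scheme.fppfPrecoverage 𝒴)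
    (hΔ : AlgSt.RepByAlgSpWith AlgSp.IsSeparatedMor (FibCat.diag (FibCat.toSelf 𝒴)))
    {F : 𝒳 ⥤ᵇ 𝒴} (i : 𝒰 ⥤ᵇ 𝒳) (hdense : Dense (Set.range (AlgSt.Points.map i)))
    {j : 𝒱 ⥤ᵇ 𝒴} (hj : AlgSt.IsMono j) (h𝒱 : AlgSt.RepByAlgSp 𝒱)
    (G : 𝒰 ⥤ᵇ 𝒱) (e : BasedFunctor.comp G j ≅ BasedFunctor.comp i F) (α : F ⟶ F) : α = 𝟙 F := by
  have hu : AlgSt.IsDMOver 𝒴 := DMDiag14.isDMOver_of_isDM h𝒴
  have hY := h𝒴.1.isStack.1
  have hX := h𝒳.1.isStack.1
  have hpY : Stk.IsPrestack (AlgSp.J S) 𝒴 := ⟨hY, fun U R hR => by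
    haveI : (Stk.resSieve R 𝒴).IsEquivalence := h𝒴.1.isStack.2 R hR
    exact ⟨inferInstance, inferInstance⟩⟩
  obtain ⟨U, x, hx, hxs⟩ := h𝒳.2
  have he : AlgSt.RepByAlgSpWith (AlgSp.LocP @Etale) x :=
    repByAlgSpWith_mono (fun _ _ _ _ ha => AlgSpDescent.locP_etale_of_isEtaleMor ha) hx
  have hf : AlgSt.RepByAlgSpWith (AlgSp.LocP @Flat) x :=
    with_locP_mono (fun _ _ g (_ : Etale g) => (inferInstance : Flat g)) he
  have hl : AlgSt.RepByAlgSpWith (AlgSp.LocP @LocallyOfFinitePresentation) x :=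
    with_locP_mono (fun _ _ g (_ : Etale g) => (inferInstance : LocallyOfFinitePresentation g)) he
  let o : Over U := Over.mk (𝟙 U)
  let h := α.toNatTrans.app (x.obj o)
  obtain ⟨O, hO, hOk⟩ := exists_locus hpY hu hΔ (BasedFunctor.comp x F) h
    (BasedNatTrans.isHomLift α (x.w_obj o))
  have hsub : Points.ofChart x ⁻¹' Set.range (Points.map i) ⊆ (O : Set ↥U.left) := by
    intro t ht
    obtain ⟨z, hz⟩ := ht
    obtain ⟨w, rfl⟩ := Points.mk_surjective z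
    obtain ⟨r, a, b, -⟩ := rel_of_mk_eq hX hz.symm
    have hr : α.toNatTrans.app r.obj = 𝟙 _ :=
      app_eq_id_of_hom hY α b (app_eq_id_of_lift hY h𝒱 α i hj G e w.obj)
    let q : Over.mk (U.left.fromSpecResidueField t ≫ U.hom) ⟶ U := Over.homMk (U.left.fromSpecResidueField t) rfl
    let k' : Over.mk r.str ⟶ Over.mk (U.left.fromSpecResidueField t ≫ U.hom) :=
      eqToHom r.lies.symm ≫ 𝒳.p.map a ≫ eqToHom (x.w_obj (Over.mk q))
    haveI : 𝒳.p.IsHomLift k' a := IsHomLift.of_fac' 𝒳.p _ _ r.lies (x.w_obj (Over.mk q)) (by simp [k'])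
    haveI : 𝒳.p.IsHomLift q (x.map (toTerm (Over.mk q))) := map_toTerm_lift x (Over.mk q)
    haveI : 𝒳.p.IsHomLift (k' ≫ q) (a ≫ x.map (toTerm (Over.mk q))) :=
      @IsHomLift.comp _ _ _ _ 𝒳.p _ _ _ _ _ _ k' q a (x.map (toTerm (Over.mk q))) ‹_› ‹_›
    haveI : 𝒳.p.IsHomLift (k' ≫ q) (x.map (toTerm (Over.mk (k' ≫ q)))) := map_toTerm_lift x (Over.mk (k' ≫ q))
    obtain ⟨ε, -, -⟩ := exists_iso_of_lifts hX (k' ≫ q) (x.map (toTerm (Over.mk (k' ≫ q))))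
      (a ≫ x.map (toTerm (Over.mk q)))
    have hk : α.toNatTrans.app (x.obj (Over.mk (k' ≫ q))) = 𝟙 _ := app_eq_id_of_hom hY α ε.hom hr
    have hcond : (BasedFunctor.comp x F).map (toTerm (Over.mk (k' ≫ q))) ≫ h =
        (BasedFunctor.comp x F).map (toTerm (Over.mk (k' ≫ q))) := by
      have n := α.toNatTrans.naturality (x.map (toTerm (Over.mk (k' ≫ q))))
      rw [hk, Category.id_comp] at n
      exact n
    obtain ⟨p⟩ := (inferInstance : Nonempty ↥(Spec (CommRingCat.of r.K)))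
    have hp : (k' ≫ q).left p ∈ (O : Set ↥U.left) := (hOk (k' ≫ q)).1 hcond ⟨p, rfl⟩
    have he : (k' ≫ q).left p = t := by
      show U.left.fromSpecResidueField t (k'.left p) = t
      exact Scheme.fromSpecResidueField_apply _ _
    rwa [he] at hp
  have hdO : (O : Set ↥U.left) = Set.univ := by
    have hd := (hdense.preimage (isOpenMap_ofChart hX hf hl)).mono hsub
    rw [← hO.closure_eq]
    exact hd.closure_eq
  have hoT : toTerm o = 𝟙 o := Over.OverMorphism.ext rfl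
  have ho : h = 𝟙 _ := by
    have h1 := (hOk (𝟙 U)).2 (by rw [hdO]; exact Set.subset_univ _)
    rw [hoT, (BasedFunctor.comp x F).toFunctor.map_id] at h1
    exact (Category.id_comp _).symm.trans h1
  have hall : ∀ b, α.toNatTrans.app (x.obj b) = 𝟙 _ := fun b => app_eq_id_of_hom hY α (x.map (toTerm b)) ho
  obtain ⟨t₁, t₂, t₃⟩ := GerbAbs.Chart.triple_of_with (isAlgStack_overCat U) h𝒳.1 hf hl hxs
  have hloc := GerbAbs.OfCover.locSurjObj (isAlgStack_overCat U) h𝒳.1 t₁ t₂ t₃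
  apply BasedNatTrans.homCategory.ext
  apply NatTrans.ext
  funext a
  show α.toNatTrans.app a = 𝟙 (F.obj a)
  obtain ⟨R, hR, hR'⟩ := hloc a
  haveI := (h𝒴.1.isStack.2 R hR).faithful
  haveI : 𝒴.p.IsHomLift (𝟙 (𝒳.p.obj a)) (α.toNatTrans.app a) := BasedNatTrans.isHomLift α rfl
  haveI : 𝒴.p.IsHomLift (𝟙 (𝒳.p.obj a)) (𝟙 (F.obj a)) := IsHomLift.id (F.w_obj a)
  refine hom_ext_of_cover hY R (f := 𝟙 _) _ _ (fun V f hf => ?_)
  obtain ⟨b, g, hg⟩ := hR' f hf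
  haveI := hg
  refine ⟨F.obj (x.obj b), F.map g, BasedFunctor.preserves_isHomLift F f g, ?_⟩
  rw [α.toNatTrans.naturality g, hall b, Category.id_comp, Category.comp_id]

end Groth.Agent.EndTrans16
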